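import Groth.Agent.Lib.QCAlgSub.Basic

/-!
# Submodules of finite type through finitely many sections, and generating submodules
-/

set_option autoImplicit false
universe u v

open CategoryTheory Limits AlgebraicGeometry Opposite TopologicalSpace

namespace Groth.Agent.Lib.QCAlgSub.Sections

open Groth.Agent.Lib Groth.Agent.Lib.Modules.SubStalk Groth.Agent.Lib.Modules.ExtendFT

noncomputable section

variable {X : Scheme.{u}} {F : X.Modules}

/-- The supremum of finitely many locally finitely generated families is one. -/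
lemma isLocFG_sup_family {S T : Family F} {W : X.Opens} (hS : IsLocFG S W) (hT : IsLocFG T W) :
    IsLocFG (fun x => S x ⊔ T x) W := by
  intro x hx
  obtain ⟨V, hV, hxV, hVW, n, s, hs⟩ := hS x hx
  obtain ⟨V', hV', hxV', -, n', s', hs'⟩ := hT x hx
  obtain ⟨A, hA, hxA, hAle⟩ := exists_isAffineOpen_mem_and_subset (U := V ⊓ V') ⟨hxV, hxV'⟩
  have h1 : A ≤ V := fun y hy => (hAle hy).1
  have h2 : A ≤ V' := fun y hy => (hAle hy).2
  refine ⟨A, hA, hxA, h1.trans hVW, n + n',
    Fin.append (fun i => F.presheaf.map (homOfLE h1).op (s i))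
      (fun i => F.presheaf.map (homOfLE h2).op (s' i)), fun y hy => ?_⟩
  show S y ⊔ T y = _
  rw [hs y (h1 hy), hs' y (h2 hy), ← Submodule.span_union]
  refine congrArg (Submodule.span _) (Set.ext fun z => ⟨?_, ?_⟩)
  · rintro (⟨i, rfl⟩ | ⟨i, rfl⟩)
    · exact ⟨Fin.castAdd n' i, by
        simp only [Fin.append_left]; exact TopCat.Presheaf.germ_res_apply _ _ _ _ _⟩
    · exact ⟨Fin.natAdd n i, by
        simp only [Fin.append_right]; exact TopCat.Presheaf.germ_res_apply _ _ _ _ _⟩
  · rintro ⟨i, rfl⟩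
    induction i using Fin.addCases with
    | left i =>
      exact Or.inl ⟨i, by
        simp only [Fin.append_left]; exact (TopCat.Presheaf.germ_res_apply _ _ _ _ _).symm⟩
    | right i =>
      exact Or.inr ⟨i, by
        simp only [Fin.append_right]; exact (TopCat.Presheaf.germ_res_apply _ _ _ _ _).symm⟩

/-- The zero family. -/
lemma isLocFG_bot (W : X.Opens) : IsLocFG (fun _ => ⊥ : Family F) W := by
  intro x hx
  obtain ⟨V, hV, hxV, hVW⟩ := exists_isAffineOpen_mem_and_subset (U := W) hx
  exact ⟨V, hV, hxV, hVW, 0, Fin.elim0, fun y hy => by simp⟩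

variable [F.IsQuasicoherent]

/-- A locally finitely generated family on `X` through finitely many sections over an affine open,
given a well-ordered affine cover with quasi-compact overlaps. -/
lemma exists_family {L : Type v} [LinearOrder L] [WellFoundedLT L] (V : L → X.Opens)
    (hV : ∀ l, IsAffineOpen (V l)) (hcov : ⨆ l, V l = ⊤) {U : X.Opens} (hU : IsAffineOpen U)
    (hW : ∀ l, IsCompact (overlap V U l : Set X)) {n : ℕ} (t : Fin n → Γ(F, U)) :
    ∃ S : Family F, IsLocFG S ⊤ ∧ ∀ i, t i ∈ secs S U := by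
  classical
  let S₀ : Family F := fun x =>
    if hx : x ∈ U then Submodule.span _ (Set.range fun i => F.presheaf.germ U x hx (t i)) else ⊥
  have h := isLocFG_total V U S₀ hV hW (IsLocFG.of_affine hU t fun y hy => dif_pos hy) hcov
  refine ⟨_, h, fun i y hy => ?_⟩
  rw [total_of_mem _ _ _ hy]
  simp only [S₀, dif_pos hy]
  exact Submodule.subset_span ⟨i, rfl⟩

/-- A family through finitely many sections, on a quasi-compact quasi-separated scheme. -/
lemma exists_family_qcqs [CompactSpace X] [QuasiSeparatedSpace X] {U : X.Opens}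
    (hU : IsAffineOpen U) {n : ℕ} (t : Fin n → Γ(F, U)) :
    ∃ S : Family F, IsLocFG S ⊤ ∧ ∀ i, t i ∈ secs S U := by
  obtain ⟨s, hs, hcov⟩ := isCompact_and_isOpen_iff_finite_and_eq_biUnion_affineOpens.mp
    (⟨isCompact_univ, isOpen_univ⟩ : IsCompact (Set.univ : Set X) ∧ IsOpen (Set.univ : Set X))
  haveI := hs.fintype
  let V : Fin (Fintype.card s) → X.Opens := fun k => ((Fintype.equivFin s).symm k).1.1
  have hV : ∀ k, IsAffineOpen (V k) := fun k => ((Fintype.equivFin s).symm k).1.2
  refine exists_family V hV (eq_top_iff.mpr fun x _ => ?_) hU (fun l => ?_) t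
  · obtain ⟨a, ha, hxa⟩ := Set.mem_iUnion₂.mp (hcov ▸ Set.mem_univ x)
    exact Opens.mem_iSup.mpr ⟨Fintype.equivFin s ⟨a, ha⟩, by simpa [V] using hxa⟩
  · unfold overlap
    rw [Opens.coe_inf, Opens.coe_sup, Opens.coe_iSup]
    refine QuasiSeparatedSpace.inter_isCompact _ _ (V l).2 (hV l).isCompact ?_ ?_
    · exact U.2.union (isOpen_iUnion fun m => (V m.1).2)
    · exact hU.isCompact.union (isCompact_iUnion fun m => (hV m.1).isCompact)

/-- A submodule of finite type through one section. -/
theorem exists_through_section_qcqs [CompactSpace X] [QuasiSeparatedSpace X] {U : X.Opens}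
    (hU : IsAffineOpen U) (t : Γ(F, U)) :
    ∃ (G : X.Modules) (i : G ⟶ F), Mono i ∧ G.IsQuasicoherent ∧ CohB1.IsFT G ∧
      ∃ g : Γ(G, U), i.app U g = t := by
  obtain ⟨S, h, hS⟩ := exists_family_qcqs hU (fun _ : Fin 1 => t)
  exact ⟨_, ι S, inferInstance, isQCoh_subMod h, isFT_subMod h, exists_ι_app (hS 0)⟩

/-- A generating submodule of finite type. -/
theorem exists_generating [CompactSpace X] [QuasiSeparatedSpace X] (B : RelSpec.QCAlg X)
    (hB : ∀ U : X.affineOpens, (B.str.app (op (U : X.Opens))).hom.FiniteType) :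
    ∃ (E : X.Modules) (j : E ⟶ B.toModule), Mono j ∧ E.IsQuasicoherent ∧ CohB1.IsFT E ∧
      ∀ U : X.affineOpens, Basic.adj B j (U : X.Opens) = ⊤ := by
  classical
  haveI := Basic.isQuasicoherent_toModule B
  obtain ⟨s, hs, hcov⟩ := isCompact_and_isOpen_iff_finite_and_eq_biUnion_affineOpens.mp
    (⟨isCompact_univ, isOpen_univ⟩ : IsCompact (Set.univ : Set X) ∧ IsOpen (Set.univ : Set X))
  have hfam : ∀ W : X.affineOpens, ∃ (n : ℕ) (t : Fin n → Γ(B.toModule, (W : X.Opens))),
      Subring.closure (Set.range (Basic.st B (W : X.Opens)) ∪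
        Set.range (fun i => (show B.presheaf.obj (op (W : X.Opens)) from t i))) = ⊤ := by
    intro W
    letI := (Basic.st B (W : X.Opens)).toAlgebra
    obtain ⟨T, hT⟩ := (hB W).out
    refine ⟨T.card, fun i => (T.equivFin.symm i).1, eq_top_iff.mpr fun b hb₀ => ?_⟩
    clear hb₀
    have hb : b ∈ Algebra.adjoin Γ(X, (W : X.Opens))
        (T : Set (B.presheaf.obj (op (W : X.Opens)))) := hT ▸ trivial
    induction hb using Algebra.adjoin_induction with
    | mem b hb => exact Subring.subset_closure (Or.inr ⟨T.equivFin ⟨b, hb⟩, by simp⟩)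
    | algebraMap r => exact Subring.subset_closure (Or.inl ⟨r, rfl⟩)
    | add _ _ _ _ h h' => exact Subring.add_mem _ h h'
    | mul _ _ _ _ h h' => exact Subring.mul_mem _ h h'
  choose n t ht using hfam
  choose S hS hmem using fun W : X.affineOpens => exists_family_qcqs W.2 (t W)
  have hsup : ∀ K : Finset X.affineOpens, ∃ T : Family B.toModule, IsLocFG T ⊤ ∧
      ∀ W ∈ K, ∀ x, S W x ≤ T x := by
    intro K
    induction K using Finset.induction with
    | empty => exact ⟨_, isLocFG_bot ⊤, by simp⟩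
    | insert W K hWK ih =>
      obtain ⟨T, hT, hle⟩ := ih
      refine ⟨_, isLocFG_sup_family (hS W) hT, fun W' hW' x => ?_⟩
      rcases Finset.mem_insert.mp hW' with rfl | h
      · exact le_sup_left
      · exact (hle W' h x).trans le_sup_right
  obtain ⟨T, hT, hle⟩ := hsup hs.toFinset
  haveI := isQCoh_subMod hT
  refine ⟨_, ι T, inferInstance, inferInstance, isFT_subMod hT, fun U => ?_⟩
  refine Basic.adj_eq_top B (ι T) (fun W : s => (W.1 : X.Opens)) (fun W => W.1.2) (fun x => ?_)
    (fun W => eq_top_iff.mpr ?_) U.2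
  · obtain ⟨a, ha, hxa⟩ := Set.mem_iUnion₂.mp (hcov ▸ Set.mem_univ x)
    exact ⟨⟨a, ha⟩, hxa⟩
  · rw [← ht W.1]
    refine Subring.closure_mono (Set.union_subset_union_right _ ?_)
    rintro _ ⟨i, rfl⟩
    obtain ⟨g, hg⟩ := exists_ι_app (S := T) (t := t W.1 i)
      fun y hy => hle W.1 (hs.mem_toFinset.mpr W.2) y (hmem W.1 i y hy)
    exact ⟨g, hg⟩

end

end Groth.Agent.Lib.QCAlgSub.Sections
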