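import Groth.Prelude.Def_RelSpec
import Groth.Agent.Lib.Modules.ExtendFT
import Groth.Agent.Lib.CohBasics.Affine
import Groth.Agent.Lib.QCoh.Localizing
import Mathlib.RingTheory.FiniteType

/-!
# The quasi-coherent subalgebra generated by a quasi-coherent submodule

For a quasi-coherent algebra `B` and a map `j : E ⟶ B` from a quasi-coherent module, the subalgebra
generated by `E` is computed on affine opens by `Subring.closure`; together with submodules of finite
type through prescribed sections.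
-/

set_option autoImplicit false
universe u v

open CategoryTheory Limits AlgebraicGeometry Opposite TopologicalSpace

namespace Groth.Agent.Lib.QCAlgSub.Basic

open Groth.Agent.Lib

noncomputable section

variable {X : Scheme.{u}} (B : RelSpec.QCAlg X)

/-- Restriction of sections of the algebra. -/
abbrev rs {U V : X.Opens} (h : V ≤ U) : B.presheaf.obj (op U) →+* B.presheaf.obj (op V) :=
  (B.presheaf.map (homOfLE h).op).hom

/-- The structure map on sections. -/
abbrev st (U : X.Opens) : Γ(X, U) →+* B.presheaf.obj (op U) := (B.str.app (op U)).hom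

lemma rs_rs {U V W : X.Opens} (h : V ≤ U) (h' : W ≤ V) (b : B.presheaf.obj (op U)) :
    rs B h' (rs B h b) = rs B (h'.trans h) b := by
  show (B.presheaf.map (homOfLE h).op ≫ B.presheaf.map (homOfLE h').op).hom b = _
  rw [← Functor.map_comp]
  rfl

lemma rs_self {U : X.Opens} (h : U ≤ U) (b : B.presheaf.obj (op U)) : rs B h b = b := by
  show (B.presheaf.map (𝟙 (op U))).hom b = b
  rw [CategoryTheory.Functor.map_id]
  rfl

lemma rs_st {U V : X.Opens} (h : V ≤ U) (r : Γ(X, U)) :
    rs B h (st B U r) = st B V (QCoh.Localizing.resR h r) :=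
  congr($(B.str.naturality (homOfLE h).op) r).symm

/-- The localization property, in elementwise form: extension. -/
lemma exists_pow_mul_eq_rs {U : X.Opens} (hU : IsAffineOpen U) (r : Γ(X, U))
    (c : B.presheaf.obj (op (X.basicOpen r))) :
    ∃ (n : ℕ) (a : B.presheaf.obj (op U)),
      c * rs B (X.basicOpen_le r) (st B U r) ^ n = rs B (X.basicOpen_le r) a := by
  letI := (rs B (X.basicOpen_le r)).toAlgebra
  haveI : IsLocalization.Away (st B U r) (B.presheaf.obj (op (X.basicOpen r))) := B.isQC U hU r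
  obtain ⟨⟨a, ⟨-, n, rfl⟩⟩, e⟩ := IsLocalization.surj (Submonoid.powers (st B U r)) c
  refine ⟨n, a, ?_⟩
  rw [← map_pow]
  exact e

/-- The localization property, in elementwise form: separation. -/
lemma exists_pow_mul_eq {U : X.Opens} (hU : IsAffineOpen U) (r : Γ(X, U))
    {a a' : B.presheaf.obj (op U)} (h : rs B (X.basicOpen_le r) a = rs B (X.basicOpen_le r) a') :
    ∃ n : ℕ, st B U r ^ n * a = st B U r ^ n * a' := by
  letI := (rs B (X.basicOpen_le r)).toAlgebra
  haveI : IsLocalization.Away (st B U r) (B.presheaf.obj (op (X.basicOpen r))) := B.isQC U hU r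
  obtain ⟨⟨-, n, rfl⟩, e⟩ := IsLocalization.exists_of_eq (M := Submonoid.powers (st B U r)) h
  exact ⟨n, e⟩

lemma res_toModule {U V : X.Opens} (h : V ≤ U) (t : Γ(B.toModule, U)) :
    QCoh.Localizing.res B.toModule h t = rs B h t := rfl

lemma smul_toModule {U : X.Opens} (r : Γ(X, U)) (t : B.presheaf.obj (op U)) :
    (r • (show Γ(B.toModule, U) from t) : Γ(B.toModule, U)) = (st B U r * t : B.presheaf.obj (op U)) :=
  rfl

/-- A quasi-coherent algebra is quasi-coherent as a module. -/
theorem isQuasicoherent_toModule : B.toModule.IsQuasicoherent := by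
  rw [QCoh.Localizing.isQCoh_iff_forall_affine]
  intro U hU r
  constructor
  · intro s
    obtain ⟨n, a, e⟩ := exists_pow_mul_eq_rs B hU r s
    refine ⟨n, a, ?_⟩
    erw [res_toModule, smul_toModule, ← e, map_pow, rs_st, mul_comm]
  · intro t ht
    obtain ⟨n, e⟩ := exists_pow_mul_eq B hU r (a := t) (a' := 0) (ht.trans (map_zero _).symm)
    refine ⟨n, ?_⟩
    erw [smul_toModule, map_pow]
    exact e.trans (mul_zero _)

/-! ### The generated subalgebra -/

variable {E : X.Modules} (j : E ⟶ B.toModule)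

/-- A module map, on sections. -/
abbrev jm (V : X.Opens) : Γ(E, V) → B.presheaf.obj (op V) := fun e => j.app V e

/-- The subring generated by the functions and the sections of `E`. -/
def adj (V : X.Opens) : Subring (B.presheaf.obj (op V)) :=
  Subring.closure (Set.range (st B V) ∪ Set.range (jm B j V))

lemma st_mem_adj (V : X.Opens) (r : Γ(X, V)) : st B V r ∈ adj B j V :=
  Subring.subset_closure (Or.inl ⟨r, rfl⟩)

lemma jm_mem_adj (V : X.Opens) (e : Γ(E, V)) : jm B j V e ∈ adj B j V :=
  Subring.subset_closure (Or.inr ⟨e, rfl⟩)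

lemma rs_jm {U V : X.Opens} (h : V ≤ U) (e : Γ(E, U)) :
    rs B h (jm B j U e) = jm B j V (QCoh.Localizing.res E h e) :=
  (res_toModule B h (j.app U e)).symm.trans (QCoh.Localizing.res_app j h e)

lemma rs_mem_adj {U V : X.Opens} (h : V ≤ U) {b : B.presheaf.obj (op U)} (hb : b ∈ adj B j U) :
    rs B h b ∈ adj B j V := by
  have : adj B j U ≤ (adj B j V).comap (rs B h) := by
    refine (Subring.closure_le).mpr (Set.union_subset ?_ ?_)
    · rintro _ ⟨r, rfl⟩
      show rs B h (st B U r) ∈ adj B j V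
      rw [rs_st]
      exact st_mem_adj B j V _
    · rintro _ ⟨e, rfl⟩
      show rs B h (jm B j U e) ∈ adj B j V
      rw [rs_jm]
      exact jm_mem_adj B j V _
  exact this hb

/-- Local membership in the generated subalgebra. -/
def IsLoc (V : X.Opens) (b : B.presheaf.obj (op V)) : Prop :=
  ∀ x ∈ V, ∃ (W : X.Opens) (h : W ≤ V), IsAffineOpen W ∧ x ∈ W ∧ rs B h b ∈ adj B j W

variable {B j} in
lemma IsLoc.of_adj {V : X.Opens} {b : B.presheaf.obj (op V)} (hb : b ∈ adj B j V) : IsLoc B j V b :=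
  fun x hx => by
    obtain ⟨W, hW, hxW, hWV⟩ := exists_isAffineOpen_mem_and_subset (U := V) hx
    exact ⟨W, hWV, hW, hxW, rs_mem_adj B j hWV hb⟩

variable {B j} in
lemma IsLoc.map₂ {V : X.Opens} {b b' : B.presheaf.obj (op V)} (hb : IsLoc B j V b)
    (hb' : IsLoc B j V b') (g : ∀ W : X.Opens, B.presheaf.obj (op W) → B.presheaf.obj (op W) →
      B.presheaf.obj (op W))
    (hg : ∀ {U W : X.Opens} (h : W ≤ U) a a', rs B h (g U a a') = g W (rs B h a) (rs B h a'))
    (hg' : ∀ {W : X.Opens} {a a'}, a ∈ adj B j W → a' ∈ adj B j W → g W a a' ∈ adj B j W) :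
    IsLoc B j V (g V b b') := fun x hx => by
  obtain ⟨W, h, hW, hxW, m⟩ := hb x hx
  obtain ⟨W', h', hW', hxW', m'⟩ := hb' x hx
  obtain ⟨A, hA, hxA, hAle⟩ := exists_isAffineOpen_mem_and_subset (U := W ⊓ W') ⟨hxW, hxW'⟩
  have hAW : A ≤ W := fun y hy => (hAle hy).1
  have hAW' : A ≤ W' := fun y hy => (hAle hy).2
  refine ⟨A, hAW.trans h, hA, hxA, ?_⟩
  rw [hg]
  refine hg' ?_ ?_
  · rw [← rs_rs B h hAW]
    exact rs_mem_adj B j hAW m
  · rw [← rs_rs B h' hAW']
    exact rs_mem_adj B j hAW' m'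

/-- The subalgebra, on sections. -/
def loc (V : X.Opens) : Subring (B.presheaf.obj (op V)) where
  carrier := {b | IsLoc B j V b}
  mul_mem' ha hb := ha.map₂ hb (fun _ a a' => a * a') (fun h a a' => map_mul _ a a')
    fun h h' => Subring.mul_mem _ h h'
  one_mem' := IsLoc.of_adj (Subring.one_mem _)
  add_mem' ha hb := ha.map₂ hb (fun _ a a' => a + a') (fun h a a' => map_add _ a a')
    fun h h' => Subring.add_mem _ h h'
  zero_mem' := IsLoc.of_adj (Subring.zero_mem _)
  neg_mem' := fun {a} ha x hx => by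
    obtain ⟨W, h, hW, hxW, m⟩ := ha x hx
    exact ⟨W, h, hW, hxW, by rw [map_neg]; exact Subring.neg_mem _ m⟩

lemma adj_le_loc (V : X.Opens) : adj B j V ≤ loc B j V := fun _ hb => IsLoc.of_adj hb

lemma rs_mem_loc {U V : X.Opens} (h : V ≤ U) {b : B.presheaf.obj (op U)} (hb : b ∈ loc B j U) :
    rs B h b ∈ loc B j V := fun x hx => by
  obtain ⟨W, hWU, hW, hxW, m⟩ := hb x (h hx)
  obtain ⟨A, hA, hxA, hAle⟩ := exists_isAffineOpen_mem_and_subset (U := W ⊓ V) ⟨hxW, hx⟩
  refine ⟨A, fun y hy => (hAle hy).2, hA, hxA, ?_⟩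
  rw [rs_rs]
  have : rs B (fun y hy => hWU (hAle hy).1) b ∈ adj B j A := by
    rw [← rs_rs B hWU (fun y hy => (hAle hy).1)]
    exact rs_mem_adj B j _ m
  exact this

variable [E.IsQuasicoherent]

/-- On an affine open, an element of the subalgebra over a basic open extends up to a power. -/
lemma exists_pow_mul_rs_mem_adj {U : X.Opens} (hU : IsAffineOpen U) (r : Γ(X, U))
    {c : B.presheaf.obj (op (X.basicOpen r))} (hc : c ∈ adj B j (X.basicOpen r)) :
    ∃ (n : ℕ) (a : B.presheaf.obj (op U)), a ∈ adj B j U ∧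
      c * rs B (X.basicOpen_le r) (st B U r) ^ n = rs B (X.basicOpen_le r) a := by
  induction hc using Subring.closure_induction with
  | mem c hc =>
    rcases hc with ⟨s, rfl⟩ | ⟨e, rfl⟩
    · haveI := hU.isLocalization_basicOpen r
      letI := (X.presheaf.map (homOfLE (X.basicOpen_le r)).op).hom.toAlgebra
      obtain ⟨⟨t, ⟨-, n, rfl⟩⟩, ht⟩ := IsLocalization.surj (Submonoid.powers r) s
      refine ⟨n, _, st_mem_adj B j U t, ?_⟩
      rw [rs_st, rs_st, ← map_pow, ← map_mul, ← map_pow]
      exact congrArg (st B _) ht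
    · obtain ⟨n, t, ht⟩ := (QCoh.Localizing.localizes_of_isAffineOpen E hU r).ext' e
      refine ⟨n, _, jm_mem_adj B j U t, ?_⟩
      rw [rs_jm, ht]
      show _ = j.app _ (_ • e)
      rw [Scheme.Modules.Hom.app_smul]
      erw [smul_toModule, map_pow, rs_st, mul_comm]
  | zero => exact ⟨0, 0, Subring.zero_mem _, by simp⟩
  | one => exact ⟨0, 1, Subring.one_mem _, by simp⟩
  | add c c' _ _ h h' =>
    obtain ⟨n, a, ha, e⟩ := h
    obtain ⟨n', a', ha', e'⟩ := h'
    refine ⟨n + n', a * st B U r ^ n' + a' * st B U r ^ n,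
      Subring.add_mem _ (Subring.mul_mem _ ha (Subring.pow_mem _ (st_mem_adj B j U r) _))
        (Subring.mul_mem _ ha' (Subring.pow_mem _ (st_mem_adj B j U r) _)), ?_⟩
    rw [map_add, map_mul, map_mul, map_pow, map_pow, ← e, ← e']
    ring
  | neg c _ h =>
    obtain ⟨n, a, ha, e⟩ := h
    exact ⟨n, -a, Subring.neg_mem _ ha, by rw [map_neg, neg_mul, e]⟩
  | mul c c' _ _ h h' =>
    obtain ⟨n, a, ha, e⟩ := h
    obtain ⟨n', a', ha', e'⟩ := h'
    refine ⟨n + n', a * a', Subring.mul_mem _ ha ha', ?_⟩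
    rw [map_mul, ← e, ← e']
    ring

/-- On an affine open, the subalgebra is generated by the functions and the sections of `E`. -/
theorem loc_eq_adj {U : X.Opens} (hU : IsAffineOpen U) : loc B j U = adj B j U := by
  refine le_antisymm (fun b hb => ?_) (adj_le_loc B j U)
  let J : Ideal Γ(X, U) :=
    { carrier := {r | st B U r * b ∈ adj B j U}
      add_mem' := fun {r r'} h h' => by
        show st B U (r + r') * b ∈ adj B j U
        rw [map_add, add_mul]
        exact Subring.add_mem _ h h'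
      zero_mem' := by
        show st B U 0 * b ∈ adj B j U
        rw [map_zero, zero_mul]
        exact Subring.zero_mem _
      smul_mem' := fun s r h => by
        show st B U (s * r) * b ∈ adj B j U
        rw [map_mul, mul_assoc]
        exact Subring.mul_mem _ (st_mem_adj B j U s) h }
  have loc1 : ∀ x : U, ∃ f : Γ(X, U), f ∈ J ∧ x.1 ∈ X.basicOpen f := by
    rintro ⟨x, hx⟩
    obtain ⟨W, hWU, -, hxW, m⟩ := hb x hx
    obtain ⟨f, hfW, hxf⟩ := hU.exists_basicOpen_le (⟨x, hxW⟩ : W) hx
    have hc : rs B (X.basicOpen_le f) b ∈ adj B j (X.basicOpen f) := by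
      rw [← rs_rs B hWU hfW]
      exact rs_mem_adj B j hfW m
    obtain ⟨n, a, ha, e⟩ := exists_pow_mul_rs_mem_adj B j hU f hc
    rw [← map_pow, ← map_mul] at e
    obtain ⟨k, hk⟩ := exists_pow_mul_eq B hU f e
    have hmem : f ^ (k + n) ∈ J := by
      show st B U (f ^ (k + n)) * b ∈ adj B j U
      rw [map_pow, pow_add, mul_assoc, mul_comm (st B U f ^ n) b]
      rw [hk]
      exact Subring.mul_mem _ (Subring.pow_mem _ (st_mem_adj B j U f) _) ha
    refine ⟨f ^ (k + n + 1), ?_, ?_⟩
    · rw [pow_succ]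
      exact J.mul_mem_right _ hmem
    · rw [X.basicOpen_pow f (Nat.succ_pos _)]
      exact hxf
  have hJ : J = ⊤ := by
    rw [← J.span_eq]
    refine (hU.self_le_iSup_basicOpen_iff).mp fun x hx => ?_
    obtain ⟨f, hf, hxf⟩ := loc1 ⟨x, hx⟩
    exact Opens.mem_iSup.mpr ⟨⟨f, hf⟩, hxf⟩
  have h1 : (1 : Γ(X, U)) ∈ J := hJ ▸ trivial
  have h2 : st B U 1 * b ∈ adj B j U := h1
  rwa [map_one, one_mul] at h2

/-- The presheaf of the subalgebra. -/
def subPresheaf : TopCat.Presheaf CommRingCat.{u} X.carrier where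
  obj V := CommRingCat.of (loc B j V.unop)
  map {U V} g := CommRingCat.ofHom <|
    (((B.presheaf.map g).hom.comp (loc B j U.unop).subtype).codRestrict (loc B j V.unop)
      fun b => rs_mem_loc B j (leOfHom g.unop) b.2)
  map_id U := by
    refine CommRingCat.hom_ext (RingHom.ext fun b => Subtype.ext ?_)
    show (B.presheaf.map (𝟙 U)).hom b.1 = b.1
    rw [CategoryTheory.Functor.map_id]
    rfl
  map_comp {U V W} g g' := by
    refine CommRingCat.hom_ext (RingHom.ext fun b => Subtype.ext ?_)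
    show (B.presheaf.map (g ≫ g')).hom b.1 = _
    rw [Functor.map_comp]
    rfl

omit [E.IsQuasicoherent] in
lemma isSheaf_subPresheaf : (subPresheaf B j).IsSheaf := by
  rw [TopCat.Presheaf.isSheaf_iff_isSheafUniqueGluing]
  intro ι U sf hsf
  obtain ⟨s, hs, huniq⟩ := TopCat.Sheaf.existsUnique_gluing
    (⟨B.presheaf, B.isSheaf⟩ : TopCat.Sheaf CommRingCat.{u} X.carrier) U
    (fun i => (sf i).val) fun i k => congrArg Subtype.val (hsf i k)
  refine ⟨⟨s, fun x hx => ?_⟩, fun i => Subtype.ext (hs i), fun t ht => Subtype.ext ?_⟩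
  · obtain ⟨i, hi⟩ := Opens.mem_iSup.mp hx
    obtain ⟨W, h, hW, hxW, m⟩ := (sf i).2 x hi
    refine ⟨W, h.trans (le_iSup U i), hW, hxW, ?_⟩
    rw [← rs_rs B (le_iSup U i) h]
    exact (congrArg (fun a => rs B h a ∈ adj B j W) (hs i)).mpr m
  · exact huniq t.val fun i => congrArg Subtype.val (ht i)

/-- The quasi-coherent subalgebra generated by `E`. -/
def subAlg : RelSpec.QCAlg X where
  presheaf := subPresheaf B j
  isSheaf := isSheaf_subPresheaf B j
  str :=
    { app := fun V => CommRingCat.ofHom <|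
        (B.str.app V).hom.codRestrict (loc B j V.unop) fun r => adj_le_loc B j _ (st_mem_adj B j _ r)
      naturality := fun U V g => CommRingCat.hom_ext (RingHom.ext fun r => Subtype.ext
        congr($(B.str.naturality g) r)) }
  isQC := by
    intro U hU r
    let hle := X.basicOpen_le r
    letI : Algebra ((subPresheaf B j).obj (op U)) ((subPresheaf B j).obj (op (X.basicOpen r))) :=
      ((subPresheaf B j).map (homOfLE hle).op).hom.toAlgebra
    refine ⟨?_, ?_, ?_⟩
    · rintro ⟨-, n, rfl⟩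
      rw [map_pow]
      refine IsUnit.pow n ?_
      have hu : IsUnit (QCoh.Localizing.resR hle r) := RingedSpace.isUnit_res_basicOpen _ r
      refine IsUnit.of_mul_eq_one
        ⟨st B _ (↑hu.unit⁻¹ : Γ(X, X.basicOpen r)), adj_le_loc B j _ (st_mem_adj B j _ _)⟩ ?_
      refine Subtype.ext ?_
      show rs B hle (st B U r) * st B _ _ = 1
      rw [rs_st, ← map_mul, hu.mul_val_inv]
      exact map_one _
    · rintro ⟨c, hc⟩
      have hc' : c ∈ adj B j (X.basicOpen r) := by
        rw [← loc_eq_adj B j (hU.basicOpen r)]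
        exact hc
      obtain ⟨n, a, ha, e⟩ := exists_pow_mul_rs_mem_adj B j hU r hc'
      refine ⟨⟨⟨a, adj_le_loc B j U ha⟩, ⟨_, n, rfl⟩⟩, Subtype.ext ?_⟩
      rw [map_pow]
      exact e
    · rintro ⟨a, ha⟩ ⟨a', ha'⟩ e
      obtain ⟨n, hn⟩ := exists_pow_mul_eq B hU r (congrArg Subtype.val e)
      exact ⟨⟨_, n, rfl⟩, Subtype.ext hn⟩

/-- The inclusion of the generated subalgebra. -/
def incl : subAlg B j ⟶ B :=
  { hom := { app := fun V => CommRingCat.ofHom (loc B j V.unop).subtype
             naturality := fun _ _ _ => rfl }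
    comm := rfl }

lemma incl_injective (V : X.Opens) : Function.Injective ((incl B j).hom.app (op V)).hom :=
  fun _ _ h => Subtype.ext h

lemma mem_range_incl {V : X.Opens} {b : B.presheaf.obj (op V)} (hb : b ∈ adj B j V) :
    b ∈ Set.range ((incl B j).hom.app (op V)).hom := ⟨⟨b, adj_le_loc B j V hb⟩, rfl⟩

/-- The generated subalgebra of a module of finite type is of finite type. -/
theorem finiteType_subAlg [SheafOfModules.IsFiniteType (R := X.ringCatSheaf) E] {U : X.Opens}
    (hU : IsAffineOpen U) : ((subAlg B j).str.app (op U)).hom.FiniteType := by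
  classical
  obtain ⟨S, hS⟩ := (CohBasics.Affine.finite_sections (M := E) hU).fg_top
  letI : Algebra Γ(X, U) (loc B j U) :=
    ((st B U).codRestrict (loc B j U) fun r => adj_le_loc B j _ (st_mem_adj B j _ r)).toAlgebra
  let g : Γ(E, U) → ↥(loc B j U) := fun e =>
    ⟨jm B j U e, adj_le_loc B j U (jm_mem_adj B j U e)⟩
  suffices h : Algebra.adjoin Γ(X, U) (↑(S.image g) : Set ↥(loc B j U)) = ⊤ from
    (⟨⟨S.image g, h⟩⟩ : Algebra.FiniteType Γ(X, U) ↥(loc B j U))
  refine eq_top_iff.mpr fun a _ => ?_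
  let T : Subring (B.presheaf.obj (op U)) :=
    (Algebra.adjoin Γ(X, U) (↑(S.image g) : Set (↥(loc B j U)))).toSubring.map
      (loc B j U).subtype
  have hT : adj B j U ≤ T := by
    refine Subring.closure_le.mpr (Set.union_subset ?_ ?_)
    · rintro _ ⟨r, rfl⟩
      exact ⟨_, Subalgebra.algebraMap_mem _ r, rfl⟩
    · rintro _ ⟨e, rfl⟩
      have he : e ∈ Submodule.span Γ(X, U) (S : Set Γ(E, U)) := hS ▸ trivial
      induction he using Submodule.span_induction with
      | mem e he => exact ⟨g e, Algebra.subset_adjoin (Finset.mem_image_of_mem g he), rfl⟩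
      | zero =>
        rw [show jm B j U 0 = 0 from map_zero (j.app U).hom]
        exact Subring.zero_mem _
      | add e e' _ _ h h' =>
        rw [show jm B j U (e + e') = jm B j U e + jm B j U e' from map_add (j.app U).hom e e']
        exact Subring.add_mem _ h h'
      | smul r e _ h =>
        rw [show jm B j U (r • e) = st B U r * jm B j U e from Scheme.Modules.Hom.app_smul j r e]
        exact Subring.mul_mem _ ⟨_, Subalgebra.algebraMap_mem _ r, rfl⟩ h
  have ha : a.1 ∈ adj B j U := by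
    rw [← loc_eq_adj B j hU]
    exact a.2
  obtain ⟨a', ha', e⟩ := hT ha
  rwa [← Subtype.ext e]

/-- Generation can be checked on an affine cover. -/
theorem adj_eq_top {κ : Type v} (W : κ → X.Opens) (hW : ∀ k, IsAffineOpen (W k))
    (hcov : ∀ x : X, ∃ k, x ∈ W k) (hgen : ∀ k, adj B j (W k) = ⊤) {U : X.Opens}
    (hU : IsAffineOpen U) : adj B j U = ⊤ := by
  refine eq_top_iff.mpr fun b _ => ?_
  rw [← loc_eq_adj B j hU]
  intro x hx
  obtain ⟨k, hxk⟩ := hcov x
  obtain ⟨f, hfU, hxf⟩ := (hW k).exists_basicOpen_le (⟨x, hx⟩ : U) hxk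
  refine ⟨X.basicOpen f, hfU, (hW k).basicOpen f, hxf, ?_⟩
  obtain ⟨n, a, e⟩ := exists_pow_mul_eq_rs B (hW k) f (rs B hfU b)
  have hu : IsUnit (QCoh.Localizing.resR (X.basicOpen_le f) f) :=
    RingedSpace.isUnit_res_basicOpen _ f
  have e2 : rs B hfU b = rs B (X.basicOpen_le f) a *
      st B (X.basicOpen f) (↑hu.unit⁻¹ : Γ(X, X.basicOpen f)) ^ n := by
    rw [← e, mul_assoc, ← mul_pow, rs_st, ← map_mul, hu.mul_val_inv, map_one, one_pow, mul_one]
  rw [e2]
  exact Subring.mul_mem _ (rs_mem_adj B j _ ((hgen k) ▸ trivial))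
    (Subring.pow_mem _ (st_mem_adj B j _ _) _)

end

end Groth.Agent.Lib.QCAlgSub.Basic
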